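import Mathlib
import Groth.Agent.Lib.Helper1.FlatNilpotent

open TensorProduct

namespace Groth.Agent.H5.DefId

universe u

section mult
variable {C' : Type u} [CommRing C'] (J : Ideal C')
variable (M : Type*) [AddCommGroup M] [Module C' M]

/-- the multiplication map `M ⊗ J → M` -/
noncomputable def mult : M ⊗[C'] ↥J →ₗ[C'] M :=
  (TensorProduct.rid C' M).toLinearMap ∘ₗ LinearMap.lTensor M (Submodule.subtype J)

@[simp] lemma mult_tmul (m : M) (j : J) : mult J M (m ⊗ₜ j) = (j : C') • m := by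
  simp [mult]

lemma mult_injective [Module.Flat C' M] : Function.Injective (mult J M) := by
  unfold mult
  rw [LinearMap.coe_comp, LinearEquiv.coe_coe]
  exact (TensorProduct.rid C' M).injective.comp
    (Module.Flat.lTensor_preserves_injective_linearMap _ Subtype.val_injective)

variable {M} {N : Type*} [AddCommGroup N] [Module C' N]

lemma mult_rTensor (f : M →ₗ[C'] N) (z : M ⊗[C'] ↥J) :
    mult J N (LinearMap.rTensor ↥J f z) = f (mult J M z) := by
  induction z using TensorProduct.induction_on with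
  | zero => simp
  | tmul m j => simp
  | add x y hx hy => simp [hx, hy]

end mult

section ring
variable {C' : Type u} [CommRing C'] (J : Ideal C') {A' : Type u} [CommRing A'] [Algebra C' A']

lemma mult_mem (z : A' ⊗[C'] ↥J) : mult J A' z ∈ J.map (algebraMap C' A') := by
  induction z using TensorProduct.induction_on with
  | zero => simp
  | tmul a j =>
    rw [mult_tmul, Algebra.smul_def]
    exact Ideal.mul_mem_right _ _ (Ideal.mem_map_of_mem _ j.2)
  | add x y hx hy => rw [map_add]; exact Ideal.add_mem _ hx hy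

lemma exists_mult_eq {a : A'} (ha : a ∈ J.map (algebraMap C' A')) : ∃ z, mult J A' z = a := by
  unfold Ideal.map at ha
  induction ha using Submodule.span_induction with
  | mem x hx =>
    obtain ⟨j, hj, rfl⟩ := hx
    exact ⟨1 ⊗ₜ ⟨j, hj⟩, by simp [Algebra.algebraMap_eq_smul_one]⟩
  | zero => exact ⟨0, map_zero _⟩
  | add x y _ _ hx hy =>
    obtain ⟨z1, rfl⟩ := hx
    obtain ⟨z2, rfl⟩ := hy
    exact ⟨z1 + z2, map_add _ _ _⟩
  | smul a x _ hx =>
    obtain ⟨z, rfl⟩ := hx
    refine ⟨LinearMap.rTensor ↥J (LinearMap.mulLeft C' a) z, ?_⟩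
    rw [mult_rTensor]
    rfl

variable (I : Ideal (A' ⧸ J.map (algebraMap C' A')))

/-- `A' → B = (A'/JA')/I` -/
noncomputable abbrev toB : A' →ₐ[C'] ((A' ⧸ J.map (algebraMap C' A')) ⧸ I) :=
  IsScalarTower.toAlgHom C' A' _

lemma toB_apply (x : A') : toB J I x = Ideal.Quotient.mk I (Ideal.Quotient.mk _ x) := rfl

lemma toB_surjective : Function.Surjective (toB J I) := fun b => by
  obtain ⟨a, rfl⟩ := Ideal.Quotient.mk_surjective b
  obtain ⟨a', rfl⟩ := Ideal.Quotient.mk_surjective a
  exact ⟨a', rfl⟩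

/-- `A' ⊗ J → B ⊗ J` -/
noncomputable abbrev pB :
    A' ⊗[C'] ↥J →ₗ[C'] (((A' ⧸ J.map (algebraMap C' A')) ⧸ I) ⊗[C'] ↥J) :=
  LinearMap.rTensor ↥J (toB J I).toLinearMap

lemma pB_surjective : Function.Surjective (pB J I) :=
  LinearMap.rTensor_surjective _ (toB_surjective J I)

lemma pB_mulLeft (a : A') (z : A' ⊗[C'] ↥J) :
    pB J I (LinearMap.rTensor ↥J (LinearMap.mulLeft C' a) z) = a • pB J I z := by
  induction z using TensorProduct.induction_on with
  | zero => simp
  | tmul b j =>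
    simp only [LinearMap.rTensor_tmul, LinearMap.mulLeft_apply, AlgHom.toLinearMap_apply,
      TensorProduct.smul_tmul', map_mul]
    congr 1
  | add x y hx hy => simp only [map_add, smul_add, hx, hy]

theorem pB_eq_zero_of_mult_mem (I' : Ideal A') [Module.Flat C' (A' ⧸ I')]
    (hI' : ∀ x ∈ I', Ideal.Quotient.mk (J.map (algebraMap C' A')) x ∈ I) (z : A' ⊗[C'] ↥J)
    (hz : mult J A' z ∈ I') : pB J I z = 0 := by
  let q : A' →ₗ[C'] (A' ⧸ I') := (Ideal.Quotient.mkₐ C' I').toLinearMap
  let ψ : (A' ⧸ I') →ₐ[C'] ((A' ⧸ J.map (algebraMap C' A')) ⧸ I) :=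
    Ideal.Quotient.liftₐ I' (toB J I) (fun a ha => Ideal.Quotient.eq_zero_iff_mem.mpr (hI' a ha))
  have h1 : LinearMap.rTensor ↥J q z = 0 := by
    apply mult_injective J (A' ⧸ I')
    rw [mult_rTensor, map_zero]
    exact Ideal.Quotient.eq_zero_iff_mem.mpr hz
  have h2 : (toB J I).toLinearMap = ψ.toLinearMap ∘ₗ q := by
    ext x
    rfl
  show LinearMap.rTensor ↥J (toB J I).toLinearMap z = 0
  rw [h2, LinearMap.rTensor_comp, LinearMap.comp_apply, h1, map_zero]

end ring

end Groth.Agent.H5.DefId
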