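import Mathlib
import Groth.Agent.Lib.Helper5.DefId.A

open TensorProduct

namespace Groth.Agent.H5.DefId

universe u

variable {C' : Type u} [CommRing C'] (J : Ideal C') {A' : Type u} [CommRing A'] [Algebra C' A']
variable (I : Ideal (A' ⧸ J.map (algebraMap C' A'))) (I' I'' : Ideal A')

/-- compatible lifting data for `x`. -/
def IsData (x : A' ⧸ J.map (algebraMap C' A')) (x' x'' : A') (z : A' ⊗[C'] ↥J) : Prop :=
  x' ∈ I' ∧ x'' ∈ I'' ∧ Ideal.Quotient.mk (J.map (algebraMap C' A')) x' = x ∧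
    Ideal.Quotient.mk (J.map (algebraMap C' A')) x'' = x ∧ mult J A' z = x'' - x'

variable {J I I' I''}

lemma exists_data (hI' : I'.map (Ideal.Quotient.mk (J.map (algebraMap C' A'))) = I)
    (hI'' : I''.map (Ideal.Quotient.mk (J.map (algebraMap C' A'))) = I)
    {x : A' ⧸ J.map (algebraMap C' A')} (hx : x ∈ I) :
    ∃ x' x'' z, IsData J I' I'' x x' x'' z := by
  have h1 : x ∈ I'.map (Ideal.Quotient.mk (J.map (algebraMap C' A'))) := hI' ▸ hx
  have h2 : x ∈ I''.map (Ideal.Quotient.mk (J.map (algebraMap C' A'))) := hI'' ▸ hx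
  rw [Ideal.mem_map_iff_of_surjective _ Ideal.Quotient.mk_surjective] at h1 h2
  obtain ⟨x', hx', e'⟩ := h1
  obtain ⟨x'', hx'', e''⟩ := h2
  have h3 : x'' - x' ∈ J.map (algebraMap C' A') := by
    rw [← Ideal.Quotient.eq, e', e'']
  obtain ⟨z, hz⟩ := exists_mult_eq J h3
  exact ⟨x', x'', z, hx', hx'', e', e'', hz⟩

lemma IsData.add {x y : A' ⧸ J.map (algebraMap C' A')} {x' x'' y' y'' : A'} {z w : A' ⊗[C'] ↥J}
    (h1 : IsData J I' I'' x x' x'' z) (h2 : IsData J I' I'' y y' y'' w) :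
    IsData J I' I'' (x + y) (x' + y') (x'' + y'') (z + w) := by
  obtain ⟨a1, a2, a3, a4, a5⟩ := h1
  obtain ⟨b1, b2, b3, b4, b5⟩ := h2
  refine ⟨I'.add_mem a1 b1, I''.add_mem a2 b2, by rw [map_add, a3, b3], by rw [map_add, a4, b4], ?_⟩
  rw [map_add, a5, b5]; ring

lemma IsData.smul {x : A' ⧸ J.map (algebraMap C' A')} {x' x'' : A'} {z : A' ⊗[C'] ↥J}
    (h1 : IsData J I' I'' x x' x'' z) (a : A') :
    IsData J I' I'' (a • x) (a * x') (a * x'')
      (LinearMap.rTensor ↥J (LinearMap.mulLeft C' a) z) := by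
  obtain ⟨a1, a2, a3, a4, a5⟩ := h1
  refine ⟨I'.mul_mem_left _ a1, I''.mul_mem_left _ a2, ?_, ?_, ?_⟩
  · rw [map_mul, a3, Algebra.smul_def]; rfl
  · rw [map_mul, a4, Algebra.smul_def]; rfl
  · rw [mult_rTensor, a5, LinearMap.mulLeft_apply, mul_sub]

variable [Module.Flat C' A']

lemma IsData.unique [Module.Flat C' (A' ⧸ I')] [Module.Flat C' (A' ⧸ I'')]
    (hI' : ∀ a ∈ I', Ideal.Quotient.mk (J.map (algebraMap C' A')) a ∈ I)
    (hI'' : ∀ a ∈ I'', Ideal.Quotient.mk (J.map (algebraMap C' A')) a ∈ I)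
    {x : A' ⧸ J.map (algebraMap C' A')} {x₁' x₁'' x₂' x₂'' : A'} {z₁ z₂ : A' ⊗[C'] ↥J}
    (h1 : IsData J I' I'' x x₁' x₁'' z₁) (h2 : IsData J I' I'' x x₂' x₂'' z₂) :
    pB J I z₁ = pB J I z₂ := by
  obtain ⟨a1, a2, a3, a4, a5⟩ := h1
  obtain ⟨b1, b2, b3, b4, b5⟩ := h2
  have h' : x₁' - x₂' ∈ J.map (algebraMap C' A') := by rw [← Ideal.Quotient.eq, a3, b3]
  have h'' : x₁'' - x₂'' ∈ J.map (algebraMap C' A') := by rw [← Ideal.Quotient.eq, a4, b4]
  obtain ⟨w', hw'⟩ := exists_mult_eq J h'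
  obtain ⟨w'', hw''⟩ := exists_mult_eq J h''
  have e : z₁ - z₂ = w'' - w' := by
    apply mult_injective J A'
    rw [map_sub, map_sub, a5, b5, hw', hw'']; ring
  have e1 : pB J I w' = 0 :=
    pB_eq_zero_of_mult_mem J I I' hI' w' (hw' ▸ I'.sub_mem a1 b1)
  have e2 : pB J I w'' = 0 :=
    pB_eq_zero_of_mult_mem J I I'' hI'' w'' (hw'' ▸ I''.sub_mem a2 b2)
  rw [← sub_eq_zero, ← map_sub, e, map_sub, e1, e2, sub_zero]

lemma le_of_map_eq (hI' : I'.map (Ideal.Quotient.mk (J.map (algebraMap C' A'))) = I) :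
    ∀ a ∈ I', Ideal.Quotient.mk (J.map (algebraMap C' A')) a ∈ I :=
  fun a ha => hI' ▸ Ideal.mem_map_of_mem _ ha

section phi
variable [Module.Flat C' (A' ⧸ I')] [Module.Flat C' (A' ⧸ I'')]
  (hI' : I'.map (Ideal.Quotient.mk (J.map (algebraMap C' A'))) = I)
  (hI'' : I''.map (Ideal.Quotient.mk (J.map (algebraMap C' A'))) = I)

include hI' hI'' in
lemma exists_val (x : ↥I) :
    ∃ b : ((A' ⧸ J.map (algebraMap C' A')) ⧸ I) ⊗[C'] ↥J,
      ∀ x' x'' z, IsData J I' I'' x.1 x' x'' z → pB J I z = b := by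
  obtain ⟨x', x'', z, h⟩ := exists_data hI' hI'' x.2
  exact ⟨pB J I z, fun y' y'' w hw =>
    IsData.unique (le_of_map_eq hI') (le_of_map_eq hI'') hw h⟩

/-- the difference homomorphism of two liftings of the ideal `I`. -/
noncomputable def phi : ↥I →ₗ[A'] ((A' ⧸ J.map (algebraMap C' A')) ⧸ I) ⊗[C'] ↥J where
  toFun x := Classical.choose (exists_val hI' hI'' x)
  map_add' x y := by
    obtain ⟨x', x'', z, h⟩ := exists_data hI' hI'' x.2
    obtain ⟨y', y'', w, h2⟩ := exists_data hI' hI'' y.2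
    rw [← Classical.choose_spec (exists_val hI' hI'' x) _ _ _ h,
      ← Classical.choose_spec (exists_val hI' hI'' y) _ _ _ h2,
      ← Classical.choose_spec (exists_val hI' hI'' (x + y)) _ _ _ (h.add h2), map_add]
  map_smul' a x := by
    obtain ⟨x', x'', z, h⟩ := exists_data hI' hI'' x.2
    rw [← Classical.choose_spec (exists_val hI' hI'' x) _ _ _ h,
      ← Classical.choose_spec (exists_val hI' hI'' (a • x)) _ _ _ (h.smul a), pB_mulLeft]
    rfl

lemma phi_spec (x : ↥I) {x' x'' : A'} {z : A' ⊗[C'] ↥J} (h : IsData J I' I'' x.1 x' x'' z) :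
    pB J I z = phi hI' hI'' x :=
  Classical.choose_spec (exists_val hI' hI'' x) _ _ _ h

end phi

theorem main11464 (C' : Type u) [CommRing C'] (J : Ideal C')
    (A' : Type u) [CommRing A'] [Algebra C' A'] [Module.Flat C' A']
    (I : Ideal (A' ⧸ J.map (algebraMap C' A')))
    (I' I'' : Ideal A') [Module.Flat C' (A' ⧸ I')] [Module.Flat C' (A' ⧸ I'')]
    (hI' : I'.map (Ideal.Quotient.mk (J.map (algebraMap C' A'))) = I)
    (hI'' : I''.map (Ideal.Quotient.mk (J.map (algebraMap C' A'))) = I) :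
    ∃! φ : ↥I →ₗ[A'] (((A' ⧸ J.map (algebraMap C' A')) ⧸ I) ⊗[C'] ↥J),
      (∀ (x : (A' ⧸ J.map (algebraMap C' A'))) (hx : x ∈ I) (x' x'' : A'), x' ∈ I' → x'' ∈ I'' →
          Ideal.Quotient.mk (J.map (algebraMap C' A')) x' = x → Ideal.Quotient.mk (J.map (algebraMap C' A')) x'' = x →
          ∀ z : A' ⊗[C'] ↥J, TensorProduct.rid C' A' (LinearMap.lTensor A' (Submodule.subtype J) z) = x'' - x' →
            LinearMap.rTensor ↥J (IsScalarTower.toAlgHom C' A' ((A' ⧸ J.map (algebraMap C' A')) ⧸ I)).toLinearMap z = φ ⟨x, hx⟩) := by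
  refine ⟨phi hI' hI'', ?_, ?_⟩
  · intro x hx x' x'' h' h'' e' e'' z hz
    exact phi_spec hI' hI'' ⟨x, hx⟩ ⟨h', h'', e', e'', hz⟩
  · intro φ₂ h₂
    ext x
    obtain ⟨x', x'', z, h⟩ := exists_data hI' hI'' x.2
    rw [← phi_spec hI' hI'' x h]
    exact (h₂ x.1 x.2 x' x'' h.1 h.2.1 h.2.2.1 h.2.2.2.1 z h.2.2.2.2).symm

end Groth.Agent.H5.DefId
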