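import Mathlib
import Groth.Agent.Lib.Helper5.DefId.B

open TensorProduct

namespace Groth.Agent.H5.DefId

universe u

variable {C' : Type u} [CommRing C'] {J : Ideal C'} {A' : Type u} [CommRing A'] [Algebra C' A']
variable {I : Ideal (A' ⧸ J.map (algebraMap C' A'))} {I' : Ideal A'}

/-- the element of `I` defined by an element of `I'`. -/
def toI (hI' : ∀ a ∈ I', Ideal.Quotient.mk (J.map (algebraMap C' A')) a ∈ I) (x' : I') : ↥I :=
  ⟨Ideal.Quotient.mk _ x'.1, hI' x'.1 x'.2⟩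

variable (hI' : ∀ a ∈ I', Ideal.Quotient.mk (J.map (algebraMap C' A')) a ∈ I)
  (φ : ↥I →ₗ[A'] (((A' ⧸ J.map (algebraMap C' A')) ⧸ I) ⊗[C'] ↥J))

/-- the translate of `I'` by `φ`. -/
def translate : Ideal A' where
  carrier := {y | ∃ (x' : I') (z : A' ⊗[C'] ↥J), y = x'.1 + mult J A' z ∧ pB J I z = φ (toI hI' x')}
  zero_mem' := ⟨0, 0, by simp, by
    have : toI hI' (0 : I') = 0 := Subtype.ext (by simp [toI])
    rw [this, map_zero, map_zero]⟩
  add_mem' := by
    rintro _ _ ⟨x', z, rfl, h1⟩ ⟨y', w, rfl, h2⟩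
    refine ⟨x' + y', z + w, by rw [map_add]; push_cast; ring, ?_⟩
    have : toI hI' (x' + y') = toI hI' x' + toI hI' y' := Subtype.ext (by simp [toI])
    rw [this, map_add, map_add, h1, h2]
  smul_mem' := by
    rintro a _ ⟨x', z, rfl, h1⟩
    refine ⟨a • x', LinearMap.rTensor ↥J (LinearMap.mulLeft C' a) z, ?_, ?_⟩
    · rw [mult_rTensor, LinearMap.mulLeft_apply, smul_eq_mul, mul_add]; rfl
    · have : toI hI' (a • x') = a • toI hI' x' := Subtype.ext (by
        simp only [toI, Submodule.coe_smul_of_tower, smul_eq_mul, map_mul, Algebra.smul_def]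
        rfl)
      rw [this, map_smul, pB_mulLeft, h1]

lemma mem_translate {y : A'} : y ∈ translate hI' φ ↔
    ∃ (x' : I') (z : A' ⊗[C'] ↥J), y = x'.1 + mult J A' z ∧ pB J I z = φ (toI hI' x') := Iff.rfl

end Groth.Agent.H5.DefId
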