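import Mathlib
import Groth.Agent.Lib.Helper5.DefId.C

open TensorProduct

namespace Groth.Agent.H5.DefId

universe u

variable {C' : Type u} [CommRing C'] {J : Ideal C'} {A' : Type u} [CommRing A'] [Algebra C' A']
variable {I : Ideal (A' ⧸ J.map (algebraMap C' A'))}

/-- every element of `(A/I) ⊗ N` is of the form `1 ⊗ n` -/
theorem exists_one_tmul {A : Type*} [CommRing A] (I : Ideal A) {N : Type*} [AddCommGroup N]
    [Module A N] (z : (A ⧸ I) ⊗[A] N) : ∃ x : N, z = (1 : A ⧸ I) ⊗ₜ[A] x := by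
  induction z using TensorProduct.induction_on with
  | zero => exact ⟨0, by rw [tmul_zero]⟩
  | add a b ha hb =>
    obtain ⟨x, rfl⟩ := ha
    obtain ⟨y, rfl⟩ := hb
    exact ⟨x + y, by rw [tmul_add]⟩
  | tmul a x =>
    obtain ⟨a, rfl⟩ := Ideal.Quotient.mk_surjective a
    refine ⟨a • x, ?_⟩
    rw [← TensorProduct.smul_tmul]
    congr 1
    rw [Algebra.smul_def, mul_one]
    rfl

section general
variable (hJJ : J * J = ⊥) (I'' : Ideal A')

include hJJ in
lemma smul_eq_zero_of_sq (j' j : J) : (j' : C') • j = 0 := by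
  apply Subtype.ext
  have : (j' : C') * (j : C') ∈ J * J := Ideal.mul_mem_mul j'.2 j.2
  rw [hJJ, Ideal.mem_bot] at this
  simpa using this

include hJJ in
/-- `q(mult w) ⊗ j = 0` -/
lemma mk_mult_tmul_eq_zero (w : A' ⊗[C'] ↥J) (j : J) :
    ((Ideal.Quotient.mkₐ C' I'').toLinearMap (mult J A' w)) ⊗ₜ[C'] j = 0 := by
  induction w using TensorProduct.induction_on with
  | zero => simp
  | tmul a j' =>
    rw [mult_tmul, map_smul, TensorProduct.smul_tmul, smul_eq_zero_of_sq hJJ, tmul_zero]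
  | add x y hx hy => rw [map_add, map_add, add_tmul, hx, hy, add_zero]

variable (hmap : I''.map (Ideal.Quotient.mk (J.map (algebraMap C' A'))) = I)

include hmap in
lemma exists_of_toB_eq_zero {k : A'} (hk : toB J I k = 0) :
    ∃ i ∈ I'', ∃ w, k = i + mult J A' w := by
  rw [toB_apply, Ideal.Quotient.eq_zero_iff_mem, ← hmap,
    Ideal.mem_map_iff_of_surjective _ Ideal.Quotient.mk_surjective] at hk
  obtain ⟨i, hi, e⟩ := hk
  have : k - i ∈ J.map (algebraMap C' A') := by rw [← Ideal.Quotient.eq, e]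
  obtain ⟨w, hw⟩ := exists_mult_eq J this
  exact ⟨i, hi, w, by rw [hw]; ring⟩

include hJJ hmap in
/-- elements of `A' ⊗ J` dying in `B ⊗ J` already die in `(A'/I'') ⊗ J`. -/
theorem rTensor_mk_eq_zero_of_pB_eq_zero (z : A' ⊗[C'] ↥J) (hz : pB J I z = 0) :
    LinearMap.rTensor ↥J (Ideal.Quotient.mkₐ C' I'').toLinearMap z = 0 := by
  have hex := rTensor_exact ↥J (LinearMap.exact_subtype_ker_map (toB J I).toLinearMap)
    (toB_surjective J I)
  obtain ⟨y, rfl⟩ := (hex z).mp hz
  rw [← LinearMap.comp_apply, ← LinearMap.rTensor_comp]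
  clear hz
  induction y using TensorProduct.induction_on with
  | zero => simp
  | tmul k j =>
    rw [LinearMap.rTensor_tmul, LinearMap.comp_apply, Submodule.subtype_apply]
    obtain ⟨i, hi, w, e⟩ := exists_of_toB_eq_zero I'' hmap (k := k.1) k.2
    rw [e, map_add, add_tmul, mk_mult_tmul_eq_zero hJJ]
    have : (Ideal.Quotient.mkₐ C' I'').toLinearMap i = 0 :=
      Ideal.Quotient.eq_zero_iff_mem.mpr hi
    rw [this, zero_tmul, zero_add]
  | add x y hx hy => rw [map_add, hx, hy, add_zero]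

include hJJ hmap in
theorem mult_mem_of_pB_eq_zero (z : A' ⊗[C'] ↥J) (hz : pB J I z = 0) : mult J A' z ∈ I'' := by
  have h := rTensor_mk_eq_zero_of_pB_eq_zero hJJ I'' hmap z hz
  have h2 := mult_rTensor J (Ideal.Quotient.mkₐ C' I'').toLinearMap z
  rw [h, map_zero] at h2
  exact Ideal.Quotient.eq_zero_iff_mem.mp h2.symm

/-- `A'/I'' → B`. -/
noncomputable def red : (A' ⧸ I'') →ₗ[C'] ((A' ⧸ J.map (algebraMap C' A')) ⧸ I) :=
  (Ideal.Quotient.liftₐ I'' (toB J I) (fun a ha =>
    Ideal.Quotient.eq_zero_iff_mem.mpr (hmap ▸ Ideal.mem_map_of_mem _ ha))).toLinearMap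

lemma red_mk (a : A') : red I'' hmap (Ideal.Quotient.mk I'' a) = toB J I a := rfl

include hmap in
lemma liftBaseChange_red_bijective :
    Function.Bijective ((red I'' hmap).liftBaseChange (C' ⧸ J)) := by
  constructor
  · rw [injective_iff_map_eq_zero]
    intro t ht
    obtain ⟨m, rfl⟩ := exists_one_tmul J t
    rw [LinearMap.liftBaseChange_tmul, one_smul] at ht
    obtain ⟨a, rfl⟩ := Ideal.Quotient.mk_surjective m
    rw [red_mk] at ht
    obtain ⟨i, hi, w, e⟩ := exists_of_toB_eq_zero I'' hmap ht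
    have e2 : Ideal.Quotient.mk I'' a = (Ideal.Quotient.mkₐ C' I'').toLinearMap (mult J A' w) := by
      rw [e, map_add, Ideal.Quotient.eq_zero_iff_mem.mpr hi, zero_add]; rfl
    rw [e2]
    clear e2 e ht
    induction w using TensorProduct.induction_on with
    | zero => simp
    | tmul a₁ j =>
      rw [mult_tmul, map_smul, ← TensorProduct.smul_tmul]
      have : (j : C') • (1 : C' ⧸ J) = 0 := by
        rw [Algebra.smul_def, mul_one]
        exact Ideal.Quotient.eq_zero_iff_mem.mpr j.2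
      rw [this, zero_tmul]
    | add x y hx hy => rw [map_add, map_add, tmul_add, hx, hy, add_zero]
  · intro b
    obtain ⟨a, rfl⟩ := toB_surjective J I b
    exact ⟨1 ⊗ₜ Ideal.Quotient.mk I'' a, by rw [LinearMap.liftBaseChange_tmul, one_smul, red_mk]⟩

end general

end Groth.Agent.H5.DefId
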