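import Mathlib
import Groth.Agent.Lib.Helper5.DefId.D

open TensorProduct

namespace Groth.Agent.H5.DefId

universe u

variable {C' : Type u} [CommRing C'] {J : Ideal C'} {A' : Type u} [CommRing A'] [Algebra C' A']
variable {I : Ideal (A' ⧸ J.map (algebraMap C' A'))}

/-- flatness of a lifting from the two conditions of the local criterion. -/
theorem flat_quotient_of (hJJ : J * J = ⊥) (I'' : Ideal A')
    (hmap : I''.map (Ideal.Quotient.mk (J.map (algebraMap C' A'))) = I)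
    [Module.Flat (C' ⧸ J) ((A' ⧸ J.map (algebraMap C' A')) ⧸ I)]
    (h : ∀ z : A' ⊗[C'] ↥J, mult J A' z ∈ I'' → pB J I z = 0) :
    Module.Flat C' (A' ⧸ I'') := by
  haveI : Module.Flat (C' ⧸ J) ((C' ⧸ J) ⊗[C'] (A' ⧸ I'')) :=
    Module.Flat.of_linearEquiv
      (LinearEquiv.ofBijective _ (liftBaseChange_red_bijective I'' hmap))
  refine Groth.Agent.H1.flat_of_isNilpotent_of_flat_quotient J ⟨2, by rw [pow_two]; exact hJJ⟩ ?_
  rw [← LinearMap.lTensor_inj_iff_rTensor_inj]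
  have hm : Function.Injective (mult J (A' ⧸ I'')) := by
    rw [injective_iff_map_eq_zero]
    intro w hw
    obtain ⟨z, rfl⟩ := LinearMap.rTensor_surjective ↥J
      (g := (Ideal.Quotient.mkₐ C' I'').toLinearMap) (Ideal.Quotient.mkₐ_surjective C' I'') w
    rw [mult_rTensor] at hw
    exact rTensor_mk_eq_zero_of_pB_eq_zero hJJ I'' hmap z
      (h z (Ideal.Quotient.eq_zero_iff_mem.mp hw))
  intro a b hab
  apply hm
  simp only [mult, LinearMap.comp_apply, hab]

variable {I' : Ideal A'} (hI' : ∀ a ∈ I', Ideal.Quotient.mk (J.map (algebraMap C' A')) a ∈ I)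
  (φ : ↥I →ₗ[A'] (((A' ⧸ J.map (algebraMap C' A')) ⧸ I) ⊗[C'] ↥J))

lemma map_translate (hmap : I'.map (Ideal.Quotient.mk (J.map (algebraMap C' A'))) = I) :
    (translate hI' φ).map (Ideal.Quotient.mk (J.map (algebraMap C' A'))) = I := by
  apply le_antisymm
  · rw [Ideal.map_le_iff_le_comap]
    rintro y ⟨x', z, rfl, -⟩
    rw [Ideal.mem_comap, map_add, Ideal.Quotient.eq_zero_iff_mem.mpr (mult_mem J z), add_zero]
    exact hI' _ x'.2
  · intro x hx
    have h1 : x ∈ I'.map (Ideal.Quotient.mk (J.map (algebraMap C' A'))) := hmap ▸ hx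
    rw [Ideal.mem_map_iff_of_surjective _ Ideal.Quotient.mk_surjective] at h1 ⊢
    obtain ⟨x', hx', rfl⟩ := h1
    obtain ⟨z, hz⟩ := pB_surjective J I (φ (toI hI' ⟨x', hx'⟩))
    refine ⟨x' + mult J A' z, ⟨⟨x', hx'⟩, z, rfl, hz⟩, ?_⟩
    rw [map_add, Ideal.Quotient.eq_zero_iff_mem.mpr (mult_mem J z), add_zero]

lemma pB_eq_zero_of_mult_mem_translate [Module.Flat C' A'] [Module.Flat C' (A' ⧸ I')]
    (z : A' ⊗[C'] ↥J) (hz : mult J A' z ∈ translate hI' φ) : pB J I z = 0 := by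
  obtain ⟨x', z₁, e, h1⟩ := hz
  have e1 : mult J A' (z - z₁) = x'.1 := by rw [map_sub, e]; ring
  have e2 : toI hI' x' = 0 := by
    apply Subtype.ext
    show Ideal.Quotient.mk _ x'.1 = 0
    rw [← e1]
    exact Ideal.Quotient.eq_zero_iff_mem.mpr (mult_mem J _)
  rw [e2, map_zero] at h1
  have h3 := pB_eq_zero_of_mult_mem J I I' hI' (z - z₁) (e1 ▸ x'.2)
  rw [map_sub, h1, sub_zero] at h3
  exact h3

lemma translate_spec [Module.Flat C' A'] [Module.Flat C' (A' ⧸ I')]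
    (x : A' ⧸ J.map (algebraMap C' A')) (hx : x ∈ I) (x' x'' : A') (hx' : x' ∈ I')
    (hx'' : x'' ∈ translate hI' φ)
    (e' : Ideal.Quotient.mk (J.map (algebraMap C' A')) x' = x)
    (e'' : Ideal.Quotient.mk (J.map (algebraMap C' A')) x'' = x)
    (z : A' ⊗[C'] ↥J) (hz : mult J A' z = x'' - x') : pB J I z = φ ⟨x, hx⟩ := by
  obtain ⟨y', w, e, h1⟩ := hx''
  have e1 : mult J A' (z - w) = y'.1 - x' := by rw [map_sub, hz, e]; ring
  have h3 := pB_eq_zero_of_mult_mem J I I' hI' (z - w) (e1 ▸ I'.sub_mem y'.2 hx')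
  rw [map_sub, sub_eq_zero] at h3
  rw [h3, h1]
  congr 1
  apply Subtype.ext
  show Ideal.Quotient.mk _ y'.1 = x
  rw [← e'', e, map_add, Ideal.Quotient.eq_zero_iff_mem.mpr (mult_mem J w), add_zero]

/-- any lifting with difference `φ` from `I'` is the translate. -/
lemma eq_translate (hJJ : J * J = ⊥)
    (hmap : I'.map (Ideal.Quotient.mk (J.map (algebraMap C' A'))) = I) (I'' : Ideal A')
    (hmap'' : I''.map (Ideal.Quotient.mk (J.map (algebraMap C' A'))) = I)
    (hspec : ∀ (x : (A' ⧸ J.map (algebraMap C' A'))) (hx : x ∈ I) (x' x'' : A'), x' ∈ I' → x'' ∈ I'' →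
      Ideal.Quotient.mk (J.map (algebraMap C' A')) x' = x →
      Ideal.Quotient.mk (J.map (algebraMap C' A')) x'' = x →
      ∀ z : A' ⊗[C'] ↥J, mult J A' z = x'' - x' → pB J I z = φ ⟨x, hx⟩) :
    I'' = translate hI' φ := by
  apply le_antisymm
  · intro x'' hx''
    have hx : Ideal.Quotient.mk (J.map (algebraMap C' A')) x'' ∈ I :=
      hmap'' ▸ Ideal.mem_map_of_mem _ hx''
    have h1 : Ideal.Quotient.mk (J.map (algebraMap C' A')) x'' ∈
      I'.map (Ideal.Quotient.mk (J.map (algebraMap C' A'))) := hmap ▸ hx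
    rw [Ideal.mem_map_iff_of_surjective _ Ideal.Quotient.mk_surjective] at h1
    obtain ⟨x', hx', e'⟩ := h1
    have h3 : x'' - x' ∈ J.map (algebraMap C' A') := by rw [← Ideal.Quotient.eq, e']
    obtain ⟨z, hz⟩ := exists_mult_eq J h3
    refine ⟨⟨x', hx'⟩, z, by rw [hz]; ring, ?_⟩
    rw [hspec _ hx x' x'' hx' hx'' e' rfl z hz]
    congr 1
    exact Subtype.ext e'.symm
  · rintro y ⟨x', z, rfl, h1⟩
    have hx : Ideal.Quotient.mk (J.map (algebraMap C' A')) x'.1 ∈ I := hI' _ x'.2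
    have h1' : Ideal.Quotient.mk (J.map (algebraMap C' A')) x'.1 ∈
      I''.map (Ideal.Quotient.mk (J.map (algebraMap C' A'))) := hmap'' ▸ hx
    rw [Ideal.mem_map_iff_of_surjective _ Ideal.Quotient.mk_surjective] at h1'
    obtain ⟨x'', hx'', e''⟩ := h1'
    have h3 : x'' - x'.1 ∈ J.map (algebraMap C' A') := by rw [← Ideal.Quotient.eq, e'']
    obtain ⟨w, hw⟩ := exists_mult_eq J h3
    have h4 := hspec _ hx x'.1 x'' x'.2 hx'' rfl e'' w hw
    have h5 : pB J I (z - w) = 0 := by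
      rw [map_sub, h1, h4, sub_eq_zero]
      rfl
    have h6 := mult_mem_of_pB_eq_zero hJJ I'' hmap'' (z - w) h5
    have : x'.1 + mult J A' z = x'' + mult J A' (z - w) := by rw [map_sub, hw]; ring
    rw [this]
    exact I''.add_mem hx'' h6

theorem main11465 (C' : Type u) [CommRing C'] [IsLocalRing C'] (J : Ideal C')
    (hJ : IsLocalRing.maximalIdeal C' * J = ⊥) (hJne : J ≠ ⊤) (A' : Type u) [CommRing A'] [Algebra C' A'] [Module.Flat C' A']
    (I : Ideal (A' ⧸ J.map (algebraMap C' A')))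
    [Module.Flat (C' ⧸ J) ((A' ⧸ J.map (algebraMap C' A')) ⧸ I)]
    (I' : Ideal A') [Module.Flat C' (A' ⧸ I')]
    (hI' : I'.map (Ideal.Quotient.mk (J.map (algebraMap C' A'))) = I)
    (φ : ↥I →ₗ[A'] (((A' ⧸ J.map (algebraMap C' A')) ⧸ I) ⊗[C'] ↥J)) :
    ∃! I'' : Ideal A', Module.Flat C' (A' ⧸ I'') ∧
      I''.map (Ideal.Quotient.mk (J.map (algebraMap C' A'))) = I ∧
      (∀ (x : (A' ⧸ J.map (algebraMap C' A'))) (hx : x ∈ I) (x' x'' : A'), x' ∈ I' → x'' ∈ I'' →
          Ideal.Quotient.mk (J.map (algebraMap C' A')) x' = x → Ideal.Quotient.mk (J.map (algebraMap C' A')) x'' = x →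
          ∀ z : A' ⊗[C'] ↥J, TensorProduct.rid C' A' (LinearMap.lTensor A' (Submodule.subtype J) z) = x'' - x' →
            LinearMap.rTensor ↥J (IsScalarTower.toAlgHom C' A' ((A' ⧸ J.map (algebraMap C' A')) ⧸ I)).toLinearMap z = φ ⟨x, hx⟩) := by
  have hJJ : J * J = ⊥ := by
    rw [eq_bot_iff, ← hJ]
    exact Ideal.mul_mono_left (IsLocalRing.le_maximalIdeal hJne)
  have hle := le_of_map_eq hI'
  refine ⟨translate hle φ, ⟨?_, map_translate hle φ hI', ?_⟩, ?_⟩
  · exact flat_quotient_of hJJ _ (map_translate hle φ hI')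
      (pB_eq_zero_of_mult_mem_translate hle φ)
  · intro x hx x' x'' hx' hx'' e' e'' z hz
    exact translate_spec hle φ x hx x' x'' hx' hx'' e' e'' z hz
  · rintro I'' ⟨_, hmap'', hspec⟩
    exact eq_translate hle φ hJJ hI' I'' hmap'' hspec

end Groth.Agent.H5.DefId
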